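import Cfsg.Agent.Mrg.Omega.OM.SWT.Base
import Cfsg.Agent.Mrg.Omega.OM.SwapK.OffW
import Cfsg.Agent.Mrg.Omega.NOThree.NoOver
import Cfsg.Agent.ZN.CaseTwo
import Cfsg.Agent.Mrg.Omega.OM.Lev.Low.LowMain

section


/-!
# (Om) over the case (L) of GammaFF: the sockets of `SWT/Base.lean` from LL and OffW

`K₀ = O₂(P)`, `B = C_S(Z_J)`, `Z_J = Ω₁Z(nxt S K₀)`, `H` a subgroup (`H = C_G(Ω₁Z(S))^m`, `m ∈ N_G(B)`).

* `LowC h H` : **LL** : minimal parabolics `Y ≤ H` over a 2-group `T ≥ B` with `O₂(P) ≰ O₂(Y)` centralise `Ω₁(Z(T))`;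
* `OffC h M H` : **OffW** (helper359) : such a `Y ≰ M` with all levels of `S` in `O₂(Y)` has a best offender `A ≤ T` on
  `⟨V_P^Y⟩`, `A ≰ O₂(Y)`;
* `bm_of`, `qfix_of`, `qfam_of` : `BM`, `QFix`, `QFam`; `lowC_cj`, `offC_cj` : conjugation by `N_G(B)`.
-/

set_option autoImplicit false
set_option linter.unusedSectionVars false

namespace Cfsg.Agent.Omega.OM.SWT

open Subgroup Cfsg Cfsg.Agent.ZN.ChoiceBase Cfsg.Agent.ZN.ChoiceSit
open Cfsg.Agent.ZN (jj zj bau zc zl o2)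
open Cfsg.Agent.MinSimple.MinParabolic (IsMinPar)
open Cfsg.Agent.MinSimple.VModule (oddGen oddGen_le)
open Cfsg.Agent.Omega.NO1.BestOff (Best)
open Cfsg.Agent.Omega.NO3S.Level (Lev nxt lim lev_isLev lev_le_lim CaseL)
open Cfsg.Agent.Omega.OM.LevD (LB K0)
open Cfsg.Agent.Omega.OM.LevB (FBlk)
open Cfsg.Agent.Omega.OM.SwapK (VF V_le_VF fam_of_off fix_of_off wl_caseL)

universe u

variable {G : Type u} [Group G] [Finite G] {S : Sylow 2 G} {P : Subgroup G}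

/-- the level `K₀ = O₂(P)` of the case (L) -/
def nL (h : CaseL S P) : LV S := ⟨o2 P, h.levQ⟩

/-- **LL** -/
def LowC (h : CaseL S P) (H : Subgroup G) : Prop :=
  ∀ T Y : Subgroup G, Syl T Y → BT (nL h) ≤ T → IsMinPar T Y → Y ⊓ centralizer (o2 Y : Set G) ≤ o2 Y → Y ≤ H →
    ¬ o2 P ≤ o2 Y → Y ≤ centralizer (zc T : Set G)

/-- **OffW** -/
def OffC (h : CaseL S P) (M H : Subgroup G) : Prop :=
  ∀ T Y : Subgroup G, Quiet (nL h) M H T Y → lim (S : Subgroup G) ≤ o2 Y → ¬ o2 P ≤ o2 Y →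
    ∃ A, A ≤ T ∧ Best (VF S P Y) A ∧ ¬ A ≤ o2 Y

theorem wrd_lim (h : CaseL S P) {F : Subgroup G} (hw : Wrd (nL h) F) : lim (S : Subgroup G) ≤ o2 F := by
  have h1 : ∀ s : ℕ, NO3S.Level.lev (S : Subgroup G) s ≤ o2 F := by
    intro s
    induction s with
    | zero => exact hw.jj
    | succ s ih =>
      exact hw.nxt ⟨_, lev_isLev (S : Subgroup G) s⟩ ((lev_le_lim (S : Subgroup G) s).trans h.lim_le) ih
  exact h1 _

/-- the pairs without stage are quiet -/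
theorem quiet_of_pair (h : CaseL S P) {M H T F : Subgroup G} (hL : LowC h H) (hp : Pair P (nL h) M H T F)
    (hw : Wrd (nL h) F) (hZM : normalizer (ZT (nL h) : Set G) ≤ M) : Quiet (nL h) M H T F := by
  have hc : F ⊓ centralizer (o2 F : Set G) ≤ o2 F := by
    obtain ⟨T₀, Y, hY, hFY, hO⟩ := hp.inQ
    rintro x ⟨hx, hxc⟩
    exact hO (hY.char2 ⟨hFY hx, centralizer_le (by exact_mod_cast hO) hxc⟩)
  exact ⟨hp.syl, hp.BT, hp.minPar hZM, hc, hp.le, hp.nM, hp.nKO hZM,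
    hL T F hp.syl hp.BT (hp.minPar hZM) hc hp.le hw.nK⟩

theorem qfix_of (h : CaseL S P) {M H : Subgroup G} (hZV : ZT (nL h) ≤ zl (S : Subgroup G) P) (hO : OffC h M H) :
    QFix (nL h) M H := fun T Y hY hw =>
  (inf_le_inf_right _ (hZV.trans V_le_VF)).trans
    (fix_of_off h h.lim_le hY.syl hY.min (wrd_lim h hw) hY.quiet (hO T Y hY (wrd_lim h hw) hw.nK))

theorem qfam_of (h : CaseL S P) {M H : Subgroup G} (hZM : normalizer (ZT (nL h) : Set G) ≤ M) (hL : LowC h H)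
    (hO : OffC h M H) : QFam P (nL h) M H := fun T F hp hw => by
  have hq := quiet_of_pair h hL hp hw hZM
  obtain ⟨𝓐, h1, h2, h3⟩ := fam_of_off h h.lim_le hq.syl hq.BT (wrd_lim h hw) (hO T F hq (wrd_lim h hw) hw.nK)
  refine ⟨𝓐, h1, h2, fun X hX hXT => ?_⟩
  obtain ⟨h4, h5⟩ := h3 X hX hXT
  exact ⟨h4, h5.imp id fun h6 F' h7 h8 => h6.max F' h8 h7⟩

/-- a block `(L', V')` over `B` with `V' ≤ V_P` and `Y = ⟨T, L'⟩` -/
theorem exists_fblk (h : CaseL S P) (hZV : ZT (nL h) ≤ zl (S : Subgroup G) P) {T Y : Subgroup G} (hT : Syl T Y)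
    (hB : BT (nL h) ≤ T) (hP : IsMinPar T Y) (hc : Y ⊓ centralizer (o2 Y : Set G) ≤ o2 Y) (hK : o2 P ≤ o2 Y)
    (hn : ¬ (nL h).nx ≤ o2 Y) (hZ : ¬ Y ≤ centralizer (zc T : Set G)) :
    ∃ L' V' : Subgroup G, L' ≤ Y ∧ FBlk (BT (nL h)) L' V' ∧ V' ≤ zl (S : Subgroup G) P ∧ Y ≤ T ⊔ L' := by
  have hwl := wl_caseL h
  obtain ⟨L', V', h1, h2, h3⟩ := hwl.exists_fblk hT hB hP hc hK hn hZ
  have hzB := hwl.zc_B
  refine ⟨L', V', h1, h2, ?_, h3⟩
  obtain ⟨Z', q', hF⟩ := h2.fb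
  have hN : Y ≤ normalizer (zl (S : Subgroup G) P : Set G) := by
    have h4 : Y ≤ normalizer (o2 P : Set G) := (le_normalizer_o2 Y).trans (hwl.norm_T (isPGroup_o2 Y) hK)
    rw [← h.zc_eq]
    exact h4.trans (NO3S.Level.normalizer_le_zc _)
  have hZ' : Z' ≤ zl (S : Subgroup G) P := by
    refine le_trans ?_ hZV
    intro z hz
    change z ∈ SwapK.ZK (S : Subgroup G) (o2 P)
    rw [← hzB]
    exact mem_zc.2 ⟨hF.VB (hF.ZV hz), (PLocal.ThompsonJ.isElementaryAbelian_iff.1 hF.el).2 z (hF.ZV hz),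
      fun y hy => hF.cZ y hy z hz⟩
  obtain ⟨l, hl, hsup⟩ := hF.sup
  have h5 : ⁅V', SwapK.BK (S : Subgroup G) (o2 P)⁆ ≤ zl (S : Subgroup G) P := (hF.toMd.comm_le le_rfl).trans hZ'
  refine hsup.trans (sup_le h5 ?_)
  rw [← cj_eq_of_mem_normalizer (hN (h1 hl))]
  exact cj_mono l h5

theorem bm_of (h : CaseL S P) {M H : Subgroup G} (hZV : ZT (nL h) ≤ zl (S : Subgroup G) P) (hL : LowC h H)
    (hX : ∀ L' V' : Subgroup G, FBlk (BT (nL h)) L' V' → V' ≤ zl (S : Subgroup G) P → L' ≤ M)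
    (hN : normalizer (BT (nL h) : Set G) ≤ M) : BM (nL h) M H := by
  intro T Y hT hB hP hc hH hn hZ
  have hK : o2 P ≤ o2 Y := by
    by_contra hK
    exact hZ (hL T Y hT hB hP hc hH hK)
  obtain ⟨L', V', -, h2, h3, h4⟩ := exists_fblk h hZV hT hB hP hc hK hn hZ
  exact h4.trans (sup_le (((lb (nL h)).two_le hT.2.1 hB).trans hN) (hX L' V' h2 h3))

/-! ### Conjugation -/

section cj

variable (h : CaseL S P) {H : Subgroup G} {m : G}

theorem norm_all (hm : m ∈ normalizer (BT (nL h) : Set G)) : cj m (o2 P) = o2 P ∧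
    cj m (zl (S : Subgroup G) P) = zl (S : Subgroup G) P ∧ cj m (nL h).nx = (nL h).nx := by
  have h1 : m ∈ normalizer (o2 P : Set G) := norm_K (nL h) hm
  refine ⟨cj_eq_of_mem_normalizer h1, cj_eq_of_mem_normalizer (h.norm_o2_le h1), ?_⟩
  exact LevD.norm_of_wc (NO3S.Level.wc_nxt (nL h).wc) (lb (nL h)).Bp (lb (nL h)).KB hm

theorem cj_char2 {Y : Subgroup G} (g : G) (hc : Y ⊓ centralizer (o2 Y : Set G) ≤ o2 Y) :
    cj g Y ⊓ centralizer (o2 (cj g Y) : Set G) ≤ o2 (cj g Y) := by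
  rw [o2_cj, ← cj_centralizer, ← cj_inf]
  exact cj_mono g hc

theorem best_cj (m : G) {V X : Subgroup G} (hb : Best V X) : Best (cj m V) (cj m X) where
  sq := by
    rintro _ ⟨a, ha, rfl⟩
    rw [← cj_centralizer]
    exact ⟨a ^ 2, hb.sq a ha, by simp⟩
  comm := by
    rintro _ ⟨a, ha, rfl⟩ _ ⟨b, hb', rfl⟩
    rw [← cj_centralizer]
    exact ⟨_, hb.comm a ha b hb', by simp only [MulEquiv.coe_toMonoidHom, MulAut.conj_apply]; group⟩
  max := fun Y hY hc => by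
    have h1 : cj m⁻¹ Y ≤ X := by
      have := cj_mono m⁻¹ hY
      rwa [cj_inv_cj] at this
    have h2 : X ⊓ centralizer (V : Set G) ≤ cj m⁻¹ Y := by
      rw [← cj_centralizer, ← cj_inf] at hc
      have := cj_mono m⁻¹ hc
      rwa [cj_inv_cj] at this
    have h3 := hb.max _ h1 h2
    have e1 : cj m V ⊓ centralizer (Y : Set G) = cj m (V ⊓ centralizer ((cj m⁻¹ Y : Subgroup G) : Set G)) := by
      rw [cj_inf, cj_centralizer, cj_cj_inv]
    have e2 : cj m V ⊓ centralizer ((cj m X : Subgroup G) : Set G) = cj m (V ⊓ centralizer (X : Set G)) := by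
      rw [cj_inf, cj_centralizer]
    rw [e1, e2, card_cj, card_cj, card_cj]
    rwa [card_cj] at h3

theorem lowC_cj (hL : LowC h H) (hm : m ∈ normalizer (BT (nL h) : Set G)) : LowC h (cj m H) := by
  intro T Y hT hB hP hc hH hK
  have hm' := inv_mem hm
  obtain ⟨e1, -, -⟩ := norm_all h hm'
  have h1 := hL (cj m⁻¹ T) (cj m⁻¹ Y) (ZN.CaseTwo.syl_cj m⁻¹ hT) (by
    have := cj_mono m⁻¹ hB
    rwa [cj_eq_of_mem_normalizer hm'] at this) (NOThree.NoOver.isMinPar_cj m⁻¹ hP) (cj_char2 m⁻¹ hc) (by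
    have := cj_mono m⁻¹ hH
    rwa [cj_inv_cj] at this) (fun hle => hK (by
    rw [o2_cj, ← e1] at hle
    have := cj_mono m hle
    rwa [cj_cj_inv, cj_cj_inv] at this))
  rw [LemmaK.Main.zc_cj, ← cj_centralizer] at h1
  have := cj_mono m h1
  rwa [cj_cj_inv, cj_cj_inv] at this

theorem quiet_cj {M T Y : Subgroup G} (hN : normalizer (BT (nL h) : Set G) ≤ M)
    (hm : m ∈ normalizer (BT (nL h) : Set G)) (hq : Quiet (nL h) M H T Y) :
    Quiet (nL h) M (cj m H) (cj m T) (cj m Y) where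
  syl := ZN.CaseTwo.syl_cj m hq.syl
  BT := by
    have := cj_mono m hq.BT
    rwa [cj_eq_of_mem_normalizer hm] at this
  min := NOThree.NoOver.isMinPar_cj m hq.min
  char2 := cj_char2 m hq.char2
  le := cj_mono m hq.le
  nM := fun hle => hq.nM (by
    have := cj_mono m⁻¹ hle
    rwa [cj_inv_cj, cj_eq_of_mem_normalizer (le_normalizer (inv_mem (hN hm)))] at this)
  nx := fun hle => hq.nx (by
    rw [o2_cj, ← (norm_all h hm).2.2] at hle
    have := cj_mono m⁻¹ hle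
    rwa [cj_inv_cj, cj_inv_cj] at this)
  quiet := by
    rw [LemmaK.Main.zc_cj, ← cj_centralizer]
    exact cj_mono m hq.quiet

theorem VF_cj (hm : m ∈ normalizer (BT (nL h) : Set G)) (Y : Subgroup G) :
    VF S P (cj m Y) ≤ cj m (VF S P Y) := by
  refine NoFF.Basic.V_le fun f hf => ?_
  rw [mem_cj] at hf
  have h1 : cj (m⁻¹ * f * m) (zl (S : Subgroup G) P) ≤ VF S P Y := NoFF.Basic.Z_le_V hf
  have h2 := cj_mono m h1
  rw [cj_cj] at h2
  have e : m * (m⁻¹ * f * m) = f * m := by group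
  rw [e, ← cj_cj, (norm_all h hm).2.1] at h2
  exact h2

theorem VF_cj_eq (hm : m ∈ normalizer (BT (nL h) : Set G)) (Y : Subgroup G) :
    VF S P (cj m Y) = cj m (VF S P Y) := by
  refine le_antisymm (VF_cj h hm Y) ?_
  have h1 := VF_cj h (inv_mem hm) (cj m Y)
  rw [cj_inv_cj] at h1
  have h2 := cj_mono m h1
  rwa [cj_cj_inv] at h2

theorem offC_cj {M : Subgroup G} (hO : OffC h M H) (hN : normalizer (BT (nL h) : Set G) ≤ M)
    (hm : m ∈ normalizer (BT (nL h) : Set G)) : OffC h M (cj m H) := by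
  intro T Y hq hl hK
  have hm' := inv_mem hm
  have hlw : cj m⁻¹ (lim (S : Subgroup G)) = lim (S : Subgroup G) :=
    LevD.norm_of_wc (NO3S.Level.wc_lim S) (lb (nL h)).Bp
      ((h.lim_le.trans (nL h).K_le_nx).trans (lb (nL h)).KB) hm'
  have hq' := quiet_cj h hN hm' hq
  rw [cj_inv_cj] at hq'
  obtain ⟨A, h1, h2, h3⟩ := hO _ _ hq' (by
    rw [o2_cj, ← hlw]
    exact cj_mono m⁻¹ hl) (fun hle => hK (by
    rw [o2_cj, ← (norm_all h hm').1] at hle
    have := cj_mono m hle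
    rwa [cj_cj_inv, cj_cj_inv] at this))
  refine ⟨cj m A, ?_, ?_, fun hle => h3 ?_⟩
  · have := cj_mono m h1
    rwa [cj_cj_inv] at this
  · have h4 := VF_cj_eq h hm (cj m⁻¹ Y)
    rw [cj_cj_inv] at h4
    rw [h4]
    exact best_cj m h2
  · rw [o2_cj]
    have := cj_mono m⁻¹ hle
    rwa [cj_inv_cj] at this

end cj

end Cfsg.Agent.Omega.OM.SWT

end

section


/-!
# (LL), `q > 2`, over a general top level `K₀`: the minimal parabolics which have a stage among the `lev S j ≤ K₀`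

`low_lev` : if `Y` moves `Ω₁Z(T)`, `T ≥ B`, then `lev S j ≤ O₂(Y)` for all `j` with `lev S j ≤ K₀`;
`low_lim` : in the case (L) `lim S ≤ O₂(Y)`; `LowW`, `lowC_of` : `LowC` from LL for the `Y` with `lim S ≤ O₂(Y)`,
`O₂(P) ≰ O₂(Y)`.
-/

set_option autoImplicit false
set_option linter.unusedSectionVars false

namespace Cfsg.Agent.Omega.OM.SWT

open Subgroup Cfsg Cfsg.Agent.ZN.ChoiceBase Cfsg.Agent.ZN.ChoiceSit
open Cfsg.Agent.ZN (jj zj bau zc zl o2)
open Cfsg.Agent.MinSimple.MinParabolic (IsMinPar)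
open Cfsg.Agent.Omega.NO3S.Level (Lev nxt lim lev_isLev lev_le_lim CaseL lev_mono lev_le)
open Cfsg.Agent.Omega.OM.Lev.Low (exists_ybj exists_stg no_low)

universe u

variable {G : Type u} [Group G] [Finite G] {S : Sylow 2 G} {P : Subgroup G}

section line

variable {ι : Type} [Finite ι] {n : LV S} {L W Z C A : ι → Subgroup G} {q : ℕ}

/-- **`QV`** -/
theorem qv (h : Ln P n L W Z C A q) {T : Subgroup G} (hT : IsPGroup 2 T) (hB : BT n ≤ T) {D : LV S}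
    (hD : D.K ≤ n.K) : Lev.Low.YB.QV T (zc D.K) (o2 P) (zl (S : Subgroup G) P) where
  QT := h.fr.QB.trans hB
  TQ := by
    intro t ht
    have h1 := (lb n).two_le hT hB ht
    have h2 := two_norm h hT hB ht
    have e : o2 P = BT n ⊓ centralizer (zl (S : Subgroup G) P : Set G) := by
      ext x
      rw [mem_inf, mem_centralizer_iff]
      constructor
      · intro hx
        exact ⟨h.fr.QB hx, fun v hv => ((h.fr.mem_Q x (h.fr.QB hx)).1 hx v hv).symm⟩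
      · rintro ⟨hx, hx'⟩
        exact (h.fr.mem_Q x hx).2 fun v hv => (hx' v hv).symm
    rw [mem_normalizer_iff_cj, e, cj_inf, cj_centralizer, cj_eq_of_mem_normalizer h1, cj_eq_of_mem_normalizer h2]
  mem := by
    intro x
    have hVX : zl (S : Subgroup G) P ≤ zc D.K := V_le_X h hD
    constructor
    · exact fun hx => ⟨hVX hx, fun q hq => (h.fr.mem_Q q (h.fr.QB hq)).1 hq x hx⟩
    · rintro ⟨hx, hxQ⟩
      have h1 : x ∈ (S : Subgroup G) := D.lev.le (mem_zc.1 hx).1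
      have h2 : x ∈ P := h.hyp.syl.1 h1
      have h3 : x ∈ o2 P := h.hyp.star.isLoc.char2 S h.hyp.ctx.char2 ⟨h2, mem_centralizer_iff.2 hxQ⟩
      exact h.fr.zcQ x h3 (mem_zc.1 hx).2.1 fun y hy => (hxQ y hy).symm
  two := hT

/-- `Ω₁Z(T) ≤ Z_J` -/
theorem zc_T_le (n : LV S) {T : Subgroup G} (hT : IsPGroup 2 T) (hB : BT n ≤ T) : zc T ≤ ZT n :=
  (LV.levT (⟨n.nx, n.lev.next⟩ : LV S) hT ((lb n).KB.trans hB)).zc_le

/-- **(LL), `q > 2`.** -/
theorem low_lev (h : Ln P n L W Z C A q) (hq : 2 < q) {T Y : Subgroup G} (hT : Syl T Y)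
    (hB : BT n ≤ T) (hP : IsMinPar T Y) (hc : Y ⊓ centralizer (o2 Y : Set G) ≤ o2 Y)
    (hZ : ¬ Y ≤ centralizer (zc T : Set G)) {j : ℕ} (hj : NO3S.Level.lev (S : Subgroup G) j ≤ n.K) :
    NO3S.Level.lev (S : Subgroup G) j ≤ o2 Y := by
  by_contra hn
  obtain ⟨i, hi, hlow, hni⟩ := exists_stg (S : Subgroup G) hn
  have hin : NO3S.Level.lev (S : Subgroup G) i ≤ n.K := (lev_mono _ hi).trans hj
  have hBi : LevB.BL (S : Subgroup G) i ≤ T := by
    refine le_trans (inf_le_inf_left _ (centralizer_le ?_)) hB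
    exact_mod_cast (lev_isLev (S : Subgroup G) i).zc_le_zc (hin.trans n.K_le_nx) (NO3S.Level.nxt_le _ _)
  obtain ⟨Λ, _, N, c, hy, l, hl⟩ := exists_ybj S hT hBi hP hc hlow hni hZ
  have h1 := no_low h.fr hq hy (qv h hT.2.1 hB (D := ⟨_, lev_isLev (S : Subgroup G) i⟩) hin) hB l
  exact hl ((zc_T_le n hT.2.1 hB).trans h1)

end line

/-- **LL** for the `Y` with `lim S ≤ O₂(Y)`, `O₂(P) ≰ O₂(Y)`. -/
def LowW (h : CaseL S P) (H : Subgroup G) : Prop :=
  ∀ T Y : Subgroup G, Syl T Y → BT (nL h) ≤ T → IsMinPar T Y → Y ⊓ centralizer (o2 Y : Set G) ≤ o2 Y → Y ≤ H →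
    lim (S : Subgroup G) ≤ o2 Y → ¬ o2 P ≤ o2 Y → Y ≤ centralizer (zc T : Set G)

/-- in the case (L) -/
theorem low_lim (h : CaseL S P) {ι : Type} [Finite ι] {L W Z C A : ι → Subgroup G} {q : ℕ}
    (hl : Ln P (nL h) L W Z C A q) (hq : 2 < q) {T Y : Subgroup G} (hT : Syl T Y)
    (hB : BT (nL h) ≤ T) (hP : IsMinPar T Y) (hc : Y ⊓ centralizer (o2 Y : Set G) ≤ o2 Y)
    (hZ : ¬ Y ≤ centralizer (zc T : Set G)) : lim (S : Subgroup G) ≤ o2 Y :=
  low_lev hl hq hT hB hP hc hZ (h.lim_le : NO3S.Level.lev (S : Subgroup G) (Nat.card G) ≤ o2 P)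

theorem lowC_of (h : CaseL S P) {ι : Type} [Finite ι] {L W Z C A : ι → Subgroup G} {q : ℕ}
    (hl : Ln P (nL h) L W Z C A q) (hq : 2 < q) {H : Subgroup G} (hw : LowW h H) : LowC h H := by
  intro T Y hT hB hP hc hH hK
  by_contra hZ
  exact hZ (hw T Y hT hB hP hc hH (low_lim h hl hq hT hB hP hc hZ) hK)

end Cfsg.Agent.Omega.OM.SWT

end
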