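import Cfsg.Agent.Mrg.Omega.OM.SWT.Sel
import Cfsg.Agent.Mrg.Omega.OM.SWT.Base
import Cfsg.Agent.Mrg.Omega.OM.SwapT.QuietL


/-!
# THEOREM SWQ over a general top level

* `cent_le` : `C_G(Z₁) ≤ X`, `1 ≠ Z₁ ≤ Ω₁Z(S)`, `q ≥ 4`;
* `coreQ : CoreQ`; `omX : OffHQ K → LamHQ K → OmX K (4 ≤ q)`.
-/

set_option autoImplicit false
set_option linter.unusedSectionVars false

namespace Cfsg.Agent.Omega.OM.SWT

open Subgroup Cfsg Cfsg.Agent.ZN.ChoiceBase Cfsg.Agent.ZN.ChoiceSit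
open Cfsg.Agent.ZN (jj zj bau zc zl o2)
open Cfsg.Agent.Omega.Frame (Cls)
open Cfsg.Agent.Omega.FrameFF (cv)
open Cfsg.Agent.Omega.FrameNOFF (CZ)
open Cfsg.Agent.Omega.NO3S.OneLine (NatC)
open Cfsg.Agent.Omega.OM.Lev.Nat
open Cfsg.Agent.Omega.Node.OmTopQ (CoreQ OffHQ LamHQ omX_of_lam)

universe u

/-- **THEOREM SWQ.** -/
theorem cent_le {G : Type u} [Group G] [Finite G] {S : Sylow 2 G} {P : Subgroup G} {n : LV S}
    {F : Type} [Field F] [Finite F] [CharP F 2] {k : ℕ}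
    {M : NatC F (S : Subgroup G) P (zl (S : Subgroup G) P) (cv (S : Subgroup G) P) k}
    {L Z A : Fin k → Subgroup G} (D : Dt P n M L Z A) (hq : 4 ≤ Nat.card F) {X Z₁ : Subgroup G}
    (hZ : Z₁ ≤ zc (S : Subgroup G)) (hZ1 : Z₁ ≠ ⊥) (hBM : BM n X (centralizer (Z₁ : Set G)))
    (hQ : QFix n X (centralizer (Z₁ : Set G))) (hQF : QFam P n X (centralizer (Z₁ : Set G)))
    (hL : ∀ i, L i ≤ X) (hD : centralizer (ZT n : Set G) ≤ X) (hN : normalizer (BT n : Set G) ≤ X) :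
    centralizer (Z₁ : Set G) ≤ X := by
  by_contra hM
  obtain ⟨T, Y, s⟩ := exists_sel D hZ hZ1 hBM hQ hD hN hM
  have hSX : (S : Subgroup G) ≤ X := ((lb n).two_le S.isPGroup' D.BS).trans hN
  have hZM : normalizer (ZT n : Set G) ≤ X := (lb n).norm_zj_le.trans (sup_le hD hN)
  have hfam := exists_fam D.ln s.pair hQF hD (s.TS.trans hSX) hZM
  have hPhi := phi_univ s hQF hD hN hq
  by_cases h4 : Nat.card F = 4
  · exact D.case_four s.pair s.TS hfam hL hD hN hPhi h4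
  · exact D.case_two s.pair s.TS hfam s.cen hD hN hPhi h4

/-- **`CoreQ`.** -/
theorem coreQ : CoreQ.{u} := by
  intro G _ _ S P n F _ _ _ k M L Z A D hq X hBM hQ hQF hL _ hD hN
  have h1 : (1 : G) ∈ normalizer (BT n : Set G) := one_mem _
  have h2 := hBM 1 h1
  have h3 := hQ 1 h1
  have h4 := hQF 1 h1
  rw [cj_one] at h2 h3 h4
  have hne : ZT n ≠ ⊥ := fun e => D.bg.Z_ne _ (le_bot_iff.1 ((D.ln.fr.Z_le ⟨0, D.k_pos⟩).trans e.le))
  obtain ⟨z, hz, hz1, hzS⟩ := SWQ.exists_fix S.isPGroup' (ZT_two n) hne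
    (((lb n).two_le S.isPGroup' D.BS).trans (lb n).norm_B_le)
  refine cent_le D hq (Z₁ := zc (S : Subgroup G)) le_rfl (fun e => hz1 ?_) h2 h3 h4 hL hD hN
  have h5 : z ∈ zc (S : Subgroup G) := mem_zc.2 ⟨D.BS ((lb n).ZB hz), (lb n).sq z hz, fun t ht =>
    mem_centralizer_iff.1 hzS t ht⟩
  rwa [e, mem_bot] at h5

/-- **(Om), case (L), natural, `q ≥ 4`**, from THEOREM QW and LAMBDA. -/
theorem omX {K : Cls.{u}} (hO : OffHQ K) (hL : LamHQ K) : Node.MulX.OmX K fun _ q => 4 ≤ q := omX_of_lam coreQ hO hL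

end Cfsg.Agent.Omega.OM.SWT
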